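import Mathlib
import Cfsg.Prelude.Def_Characters
import Cfsg.Agent.Lib.Centralizers.GL2
import Cfsg.Agent.Lib.SL2Borel.Inner

/-!
# Principal series of `GL₂`
-/

set_option autoImplicit false

namespace CfsgLib.GL2Borel

open Matrix CfsgLib.Chars
open scoped ComplexConjugate

universe u

variable {F : Type u} [Field F]

local notation "G2" => Matrix.GeneralLinearGroup (Fin 2) F
local notation "M2" => Matrix (Fin 2) (Fin 2) F
local notation "BG" => Cfsg.upperTriangularGL 2 F

/-- The character of the Borel subgroup attached to a pair. -/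
noncomputable def wt (α β : MulChar F ℂ) (b : BG) : ℂ := α (((b : G2) : M2) 0 0) * β (((b : G2) : M2) 1 1)

/-- Extension by zero. -/
noncomputable def ext (α β : MulChar F ℂ) (y : G2) : ℂ :=
  open Classical in if (y : M2) 1 0 = 0 then α ((y : M2) 0 0) * β ((y : M2) 1 1) else 0

theorem mem_B (g : G2) : g ∈ BG ↔ (g : M2) 1 0 = 0 := CfsgLib.Centralizers.GL2.mem_borel g

theorem entry (a b : G2) (i j : Fin 2) :
    ((a * b : G2) : M2) i j = (a : M2) i 0 * (b : M2) 0 j + (a : M2) i 1 * (b : M2) 1 j := by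
  rw [Units.val_mul, Matrix.mul_apply, Fin.sum_univ_two]

/-- Coset representatives. -/
noncomputable def rep : Option F → G2
  | none => 1
  | some x => Matrix.SpecialLinearGroup.toGL (CfsgLib.SL2Borel.rep (some x))

theorem rep_coe (x : F) : ((rep (some x) : G2) : M2) = !![x, -1; 1, 0] := rfl

theorem rep_inv_coe (x : F) : (((rep (some x))⁻¹ : G2) : M2) = !![0, 1; -1, x] := by
  refine Units.inv_eq_of_mul_eq_one_right ?_
  rw [rep_coe]
  ext i j
  fin_cases i <;> fin_cases j <;> simp [Matrix.mul_apply, Fin.sum_univ_two]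

theorem diag_ne (b : G2) (hb : (b : M2) 1 0 = 0) : (b : M2) 0 0 * (b : M2) 1 1 ≠ 0 := by
  have h := ((Matrix.isUnit_iff_isUnit_det _).1 b.isUnit).ne_zero
  rw [Matrix.det_fin_two, hb, mul_zero, sub_zero] at h
  exact h

theorem rep_bijective : Function.Bijective (fun p : Option F × BG => rep p.1 * (p.2 : G2)) := by
  classical
  constructor
  · rintro ⟨o, b, hb⟩ ⟨o', b', hb'⟩ h
    have e0 := congrArg (fun y : G2 => (y : M2) 0 0) h
    have e1 := congrArg (fun y : G2 => (y : M2) 1 0) h
    have hd := diag_ne b ((mem_B b).1 hb)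
    have hd' := diag_ne b' ((mem_B b').1 hb')
    rw [mem_B] at hb hb'
    simp only [entry, hb, hb', mul_zero, add_zero] at e0 e1
    have ho : o = o' := by
      cases o with
      | none =>
        cases o' with
        | none => rfl
        | some x =>
          rw [rep_coe] at e1
          simp [rep] at e1
          exact absurd e1.symm (left_ne_zero_of_mul hd')
      | some x =>
        cases o' with
        | none =>
          rw [rep_coe] at e1
          simp [rep] at e1
          exact absurd e1 (left_ne_zero_of_mul hd)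
        | some x' =>
          rw [rep_coe, rep_coe] at e0 e1
          simp at e0 e1
          rw [← e1] at e0
          rw [mul_right_cancel₀ (left_ne_zero_of_mul hd) e0]
    subst ho
    simp only [mul_right_inj] at h
    subst h
    rfl
  · intro y
    by_cases hy : (y : M2) 1 0 = 0
    · exact ⟨⟨none, y, (mem_B y).mpr hy⟩, one_mul y⟩
    · refine ⟨⟨some ((y : M2) 0 0 / (y : M2) 1 0), ⟨(rep (some ((y : M2) 0 0 / (y : M2) 1 0)))⁻¹ * y, ?_⟩⟩,
        mul_inv_cancel_left _ _⟩
      rw [mem_B, entry, rep_inv_coe]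
      simp
      field_simp
      ring

theorem ext_eq (α β : MulChar F ℂ) (y : G2) :
    Cfsg.extendByZero BG (wt α β) y = ext α β y := by
  unfold Cfsg.extendByZero ext
  by_cases hy : (y : M2) 1 0 = 0
  · rw [if_pos hy]
    exact Subtype.val_injective.extend_apply (wt α β) 0 ⟨y, (mem_B y).mpr hy⟩
  · rw [if_neg hy, Function.extend_apply' _ _ _ (fun ⟨b, hb⟩ => hy (hb ▸ (mem_B _).mp b.2))]
    rfl

theorem ext_conj (α β : MulChar F ℂ) {b : G2} (hb : b ∈ BG) (y : G2) : ext α β (b⁻¹ * y * b) = ext α β y := by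
  have hbi : b⁻¹ ∈ BG := Subgroup.inv_mem _ hb
  rw [mem_B] at hb hbi
  have hd := diag_ne b hb
  have e : b⁻¹ * b = 1 := inv_mul_cancel b
  have i00 : ((b⁻¹ : G2) : M2) 0 0 * (b : M2) 0 0 = 1 := by
    have := congrArg (fun z : G2 => (z : M2) 0 0) e
    simp only [entry, hb, mul_zero, add_zero, Units.val_one, Matrix.one_apply_eq] at this
    exact this
  have i11 : ((b⁻¹ : G2) : M2) 1 1 * (b : M2) 1 1 = 1 := by
    have := congrArg (fun z : G2 => (z : M2) 1 1) e
    simp only [entry, hbi, zero_mul, zero_add, Units.val_one, Matrix.one_apply_eq] at this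
    exact this
  have h10 : ((b⁻¹ * y * b : G2) : M2) 1 0 = ((b⁻¹ : G2) : M2) 1 1 * (b : M2) 0 0 * (y : M2) 1 0 := by
    rw [entry, entry, hb, hbi]; ring
  unfold ext
  by_cases hy : (y : M2) 1 0 = 0
  · rw [if_pos hy, if_pos (by rw [h10, hy, mul_zero])]
    have h00 : ((b⁻¹ * y * b : G2) : M2) 0 0 = (y : M2) 0 0 := by
      rw [entry, entry, hb, hy]
      linear_combination (y : M2) 0 0 * i00
    have h11 : ((b⁻¹ * y * b : G2) : M2) 1 1 = (y : M2) 1 1 := by
      rw [entry, entry, entry, hbi, hy]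
      linear_combination (y : M2) 1 1 * i11
    rw [h00, h11]
  · rw [if_neg hy, if_neg (by
      rw [h10]
      exact mul_ne_zero (mul_ne_zero (left_ne_zero_of_mul_eq_one i11) (left_ne_zero_of_mul hd)) hy)]

/-- Parametrisation of the Borel subgroup. -/
def belt (p : (Fˣ × Fˣ) × F) : BG :=
  ⟨Matrix.GeneralLinearGroup.mkOfDetNeZero !![(p.1.1 : F), p.2; 0, (p.1.2 : F)]
    (by simp [Matrix.det_fin_two]), (mem_B _).2 rfl⟩

theorem belt_coe (p : (Fˣ × Fˣ) × F) : (((belt p : BG) : G2) : M2) = !![(p.1.1 : F), p.2; 0, (p.1.2 : F)] := rfl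

theorem belt_bijective : Function.Bijective (belt (F := F)) := by
  constructor
  · rintro ⟨⟨a, d⟩, c⟩ ⟨⟨a', d'⟩, c'⟩ h
    have h0 := congrArg (fun y : BG => ((y : G2) : M2) 0 0) h
    have h1 := congrArg (fun y : BG => ((y : G2) : M2) 0 1) h
    have h2 := congrArg (fun y : BG => ((y : G2) : M2) 1 1) h
    simp [belt_coe] at h0 h1 h2
    exact Prod.ext (Prod.ext (Units.ext h0) (Units.ext h2)) h1
  · rintro ⟨g, hg⟩
    have h10 := (mem_B g).mp hg
    have hd := diag_ne g h10
    refine ⟨⟨⟨Units.mk0 _ (left_ne_zero_of_mul hd), Units.mk0 _ (right_ne_zero_of_mul hd)⟩, (g : M2) 0 1⟩,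
      Subtype.ext (Units.ext ?_)⟩
    rw [belt_coe]
    ext i j
    fin_cases i <;> fin_cases j <;> simp [h10]

variable [Fintype F] [DecidableEq F]

theorem indFun_eq (α β : MulChar F ℂ) (g : G2) :
    Cfsg.indFun BG (wt α β) g =
      (if (g : M2) 1 0 = 0 then α ((g : M2) 0 0) * β ((g : M2) 1 1) else 0) +
        ∑ x : F, if (g : M2) 1 0 * x * x + ((g : M2) 1 1 - (g : M2) 0 0) * x - (g : M2) 0 1 = 0 then
          α ((g : M2) 1 0 * x + (g : M2) 1 1) * β ((g : M2) 0 0 - (g : M2) 1 0 * x) else 0 := by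
  classical
  haveI : Fintype BG := Fintype.ofFinite _
  unfold Cfsg.indFun
  simp only [ext_eq]
  rw [← Fintype.sum_bijective _ rep_bijective (fun p => ext α β ((rep p.1 * (p.2 : G2))⁻¹ * g * (rep p.1 * (p.2 : G2))))
    _ (fun p => rfl), Fintype.sum_prod_type]
  have h : ∀ (o : Option F) (b : BG), ext α β ((rep o * (b : G2))⁻¹ * g * (rep o * (b : G2))) = ext α β ((rep o)⁻¹ * g * rep o) := by
    intro o b
    rw [← ext_conj α β b.2 ((rep o)⁻¹ * g * rep o)]
    congr 1
    group
  simp only [h, Finset.sum_const, Finset.card_univ, nsmul_eq_mul]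
  rw [← Finset.mul_sum, ← mul_assoc, Nat.card_eq_fintype_card, inv_mul_cancel₀ (Nat.cast_ne_zero.mpr Fintype.card_ne_zero), one_mul, Fintype.sum_option]
  congr 1
  · simp [rep, ext]
  · refine Finset.sum_congr rfl fun x _ => ?_
    have h10 : (((rep (some x))⁻¹ * g * rep (some x) : G2) : M2) 1 0 =
        (g : M2) 1 0 * x * x + ((g : M2) 1 1 - (g : M2) 0 0) * x - (g : M2) 0 1 := by
      rw [entry, entry, entry, rep_inv_coe, rep_coe]; simp; ring
    have h00 : (((rep (some x))⁻¹ * g * rep (some x) : G2) : M2) 0 0 = (g : M2) 1 0 * x + (g : M2) 1 1 := by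
      rw [entry, entry, entry, rep_inv_coe, rep_coe]; simp
    have h11 : (((rep (some x))⁻¹ * g * rep (some x) : G2) : M2) 1 1 = (g : M2) 0 0 - (g : M2) 1 0 * x := by
      rw [entry, entry, entry, rep_inv_coe, rep_coe]; simp; ring
    unfold ext
    rw [h10, h00, h11]
    congr

theorem inner_eq (α β α' β' : MulChar F ℂ) [Decidable (α = α')] [Decidable (β = β')] [Decidable (α = β')] [Decidable (β = α')] :
    Cfsg.classInner (Cfsg.indFun BG (wt α β)) (Cfsg.indFun BG (wt α' β')) =
      (if α = α' then 1 else 0) * (if β = β' then 1 else 0) + (if α = β' then 1 else 0) * (if β = α' then 1 else 0) := by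
  classical
  haveI : Fintype BG := Fintype.ofFinite _
  rw [CfsgLib.Chars.frobenius _ _ (indFun_isClassFunction _ _), Cfsg.classInner]
  set e := Equiv.ofBijective _ (belt_bijective (F := F)) with he
  rw [← Fintype.sum_equiv e
    (fun p : (Fˣ × Fˣ) × F => α (p.1.1 : F) * β (p.1.2 : F) * conj (Cfsg.indFun BG (wt α' β') ((belt p : BG) : G2)))
    _ (fun p => by rfl)]
  have hcard : Nat.card BG = Nat.card Fˣ * Nat.card Fˣ * Fintype.card F := by
    rw [← Nat.card_congr e, Nat.card_prod, Nat.card_prod, Nat.card_eq_fintype_card (α := F)]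
  have hval : ∀ (a d : Fˣ) (c : F), Cfsg.indFun BG (wt α' β') ((belt ((a, d), c) : BG) : G2) =
      α' (a : F) * β' (d : F) + ∑ x : F, if ((d : F) - a) * x = c then α' (d : F) * β' (a : F) else 0 := by
    intro a d c
    rw [indFun_eq α' β', belt_coe]
    simp [sub_eq_zero]
  have hsum : ∀ a d : Fˣ, ∑ c : F, α (a : F) * β (d : F) * conj (Cfsg.indFun BG (wt α' β') ((belt ((a, d), c) : BG) : G2)) =
      (Fintype.card F : ℂ) * ((α * α'⁻¹) (a : F) * (β * β'⁻¹) (d : F) + (α * β'⁻¹) (a : F) * (β * α'⁻¹) (d : F)) := by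
    intro a d
    have hc : ∀ (χ : MulChar F ℂ) (y : F), χ⁻¹ y = conj (χ y) := fun χ y => by
      rw [← MulChar.star_apply', RCLike.star_def]
    simp only [hval, map_add, map_sum, mul_add, Finset.sum_add_distrib]
    rw [Finset.sum_const, nsmul_eq_mul, Finset.card_univ]
    congr 1
    · simp only [MulChar.mul_apply, hc, map_mul]
      ring
    · rw [← Finset.mul_sum, Finset.sum_comm]
      simp only [apply_ite (starRingEnd ℂ), map_zero, Finset.sum_ite_eq, Finset.mem_univ, if_true,
        Finset.sum_const, nsmul_eq_mul, Finset.card_univ, MulChar.mul_apply, hc, map_mul]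
      ring
  rw [Fintype.sum_prod_type, Fintype.sum_prod_type]
  simp only [hsum, ← Finset.mul_sum, Finset.sum_add_distrib, ← Finset.sum_mul, CfsgLib.SL2Borel.sum_units_mulChar,
    mul_inv_eq_one]
  rw [hcard]
  have hu : (Nat.card Fˣ : ℂ) ≠ 0 := natCast_card_ne_zero Fˣ
  have hF : (Fintype.card F : ℂ) ≠ 0 := Nat.cast_ne_zero.2 Fintype.card_ne_zero
  push_cast
  split_ifs <;> field_simp <;> ring

theorem isCharacter_principal (α β : MulChar F ℂ) : Cfsg.IsCharacter G2 (Cfsg.indFun BG (wt α β)) := by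
  haveI : Fintype BG := Fintype.ofFinite _
  refine IsCharacter.indFun BG ?_
  let f0 : BG →* ℂ :=
    { toFun := wt α β
      map_one' := by simp [wt]
      map_mul' := fun b c => by
        have hc : ((c : G2) : M2) 1 0 = 0 := (mem_B _).1 c.2
        have hb : ((b : G2) : M2) 1 0 = 0 := (mem_B _).1 b.2
        simp only [wt, Subgroup.coe_mul, entry, hc, hb, mul_zero, zero_mul, add_zero, zero_add, map_mul]
        ring }
  exact isCharacter_hom f0.toHomUnits

theorem eq_iff (α β α' β' : MulChar F ℂ) :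
    Cfsg.indFun BG (wt α β) = Cfsg.indFun BG (wt α' β') ↔ (α = α' ∧ β = β') ∨ (α = β' ∧ β = α') := by
  classical
  constructor
  · intro h
    have h1 := inner_eq α β α β
    have h2 := inner_eq α β α' β'
    rw [← h, h1] at h2
    by_contra hc
    push Not at hc
    rw [if_pos rfl, if_pos rfl] at h2
    have hz1 : (if α = α' then (1 : ℂ) else 0) * (if β = β' then 1 else 0) = 0 := by
      split_ifs with p q <;> simp_all
    have hz2 : (if α = β' then (1 : ℂ) else 0) * (if β = α' then 1 else 0) = 0 := by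
      split_ifs with p q <;> simp_all
    rw [hz1, hz2] at h2
    split_ifs at h2 <;> norm_num at h2
  · rintro (⟨rfl, rfl⟩ | ⟨rfl, rfl⟩)
    · rfl
    set f : G2 → ℂ := fun g => Cfsg.indFun BG (wt α β) g - Cfsg.indFun BG (wt β α) g with hf
    have h0 : Cfsg.classInner f f = 0 := by
      have expand : Cfsg.classInner f f =
          Cfsg.classInner (Cfsg.indFun BG (wt α β)) (Cfsg.indFun BG (wt α β)) -
          Cfsg.classInner (Cfsg.indFun BG (wt α β)) (Cfsg.indFun BG (wt β α)) -
          Cfsg.classInner (Cfsg.indFun BG (wt β α)) (Cfsg.indFun BG (wt α β)) +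
          Cfsg.classInner (Cfsg.indFun BG (wt β α)) (Cfsg.indFun BG (wt β α)) := by
        simp only [hf, Cfsg.classInner, map_sub, sub_mul, mul_sub, Finset.sum_sub_distrib]
        ring
      rw [expand, inner_eq, inner_eq, inner_eq, inner_eq]
      by_cases hab : α = β
      · subst hab; simp
      · simp [hab, Ne.symm hab]
    rw [Cfsg.classInner, mul_eq_zero, or_iff_right (inv_ne_zero (natCast_card_ne_zero G2))] at h0
    simp only [Complex.mul_conj] at h0
    rw [← Complex.ofReal_sum, Complex.ofReal_eq_zero] at h0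
    funext g
    have := Complex.normSq_eq_zero.1 ((Finset.sum_eq_zero_iff_of_nonneg fun x _ => Complex.normSq_nonneg _).1 h0 g
      (Finset.mem_univ _))
    exact sub_eq_zero.1 this

end CfsgLib.GL2Borel
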