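import Mathlib
import Cfsg.Agent.Lib.GL2Borel.Principal
import Cfsg.Agent.Lib.CharAbelian
import Cfsg.Agent.Lib.Chars.Central

/-!
# Principal series and cuspidal characters of `GL₂`
-/

set_option autoImplicit false

namespace CfsgLib.GL2Borel

open Matrix CfsgLib.Chars Cfsg
open scoped ComplexConjugate

universe u

variable {F : Type u} [Field F] [Fintype F] [DecidableEq F]

local notation "G2" => Matrix.GeneralLinearGroup (Fin 2) F
local notation "M2" => Matrix (Fin 2) (Fin 2) F
local notation "BG" => Cfsg.upperTriangularGL 2 F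

/-- The linear character `α ∘ det`. -/
noncomputable def lam (α : MulChar F ℂ) : IrrCharacter G2 :=
  homIrr (α.toUnitHom.comp Matrix.GeneralLinearGroup.det)

theorem lam_apply (α : MulChar F ℂ) (g : G2) :
    (lam α : G2 → ℂ) g = α ((g : M2) 0 0 * (g : M2) 1 1 - (g : M2) 0 1 * (g : M2) 1 0) := by
  show ((α.toUnitHom (Matrix.GeneralLinearGroup.det g) : ℂˣ) : ℂ) = _
  rw [MulChar.coe_toUnitHom, Matrix.GeneralLinearGroup.val_det_apply, Matrix.det_fin_two]

theorem lam_mul_conj (α : MulChar F ℂ) (g : G2) : (lam α : G2 → ℂ) g * conj ((lam α : G2 → ℂ) g) = 1 :=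
  hom_mul_conj (α.toUnitHom.comp Matrix.GeneralLinearGroup.det) g

theorem inner_lam (α : MulChar F ℂ) :
    classInner (indFun BG (wt α α)) (lam α : G2 → ℂ) = 1 := by
  classical
  haveI : Fintype BG := Fintype.ofFinite _
  rw [CfsgLib.Chars.frobenius _ _ (IsCharacter.isClassFunction (isCharacter_irr (lam α))), classInner]
  have h : ∀ b : BG, wt α α b * conj ((lam α : G2 → ℂ) b) = 1 := by
    intro b
    have hb : ((b : G2) : M2) 1 0 = 0 := (mem_B _).1 b.2
    have : wt α α b = (lam α : G2 → ℂ) b := by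
      rw [lam_apply, hb, mul_zero, sub_zero, map_mul]; rfl
    rw [this, lam_mul_conj]
  simp only [h, Finset.sum_const, Finset.card_univ, ← Nat.card_eq_fintype_card, nsmul_eq_mul, mul_one]
  exact inv_mul_cancel₀ (natCast_card_ne_zero BG)

theorem exists_steinberg (α : MulChar F ℂ) :
    ∃ S : IrrCharacter G2, S ≠ lam α ∧ (∀ g, indFun BG (wt α α) g = (lam α : G2 → ℂ) g + (S : G2 → ℂ) g) ∧
      classInner (indFun BG (wt α α)) (S : G2 → ℂ) ≠ 0 := by
  classical
  set Θ := indFun BG (wt α α) with hΘ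
  have hchar : IsCharacter G2 Θ := isCharacter_principal α α
  have hnorm : classInner Θ Θ = 2 := by
    rw [hΘ, inner_eq α α α α, if_pos rfl]; norm_num
  choose m hm using exists_mult hchar
  have hexp : ∀ x, Θ x = ∑ χ : IrrCharacter G2, (m χ : ℂ) * (χ : G2 → ℂ) x := fun x => by
    rw [classFunction_expand (IsCharacter.isClassFunction hchar) x]; simp only [hm]
  have hsq : ∑ χ : IrrCharacter G2, m χ * m χ = 2 := by
    have h1 : classInner Θ Θ = ∑ χ : IrrCharacter G2, (m χ : ℂ) * classInner (χ : G2 → ℂ) Θ := by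
      conv_lhs => arg 1; rw [funext hexp]
      exact classInner_sum _ _ _ _
    have h2 : ∀ χ : IrrCharacter G2, classInner (χ : G2 → ℂ) Θ = (m χ : ℂ) := fun χ => by
      rw [classInner_symm, hm, map_natCast]
    simp only [h2, hnorm] at h1
    exact_mod_cast h1.symm
  have hl : m (lam α) = 1 := by
    have := (hm (lam α)).symm.trans (inner_lam α)
    exact_mod_cast this
  rw [← Finset.add_sum_erase _ _ (Finset.mem_univ (lam α)), hl] at hsq
  have hsum1 : ∑ χ ∈ Finset.univ.erase (lam α), m χ * m χ = 1 := by omega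
  obtain ⟨S, hS, hSne⟩ := Finset.exists_ne_zero_of_sum_ne_zero (by rw [hsum1]; exact one_ne_zero)
  have hSne' : m S ≠ 0 := fun h => hSne (by rw [h, mul_zero])
  rw [← Finset.add_sum_erase _ _ hS] at hsum1
  have hS1 : m S = 1 := by
    rcases Nat.lt_or_ge (m S) 2 with h | h
    · omega
    · exfalso
      have h4 : 2 * 2 ≤ m S * m S := Nat.mul_le_mul h h
      omega
  have hrest : ∀ χ ∈ (Finset.univ.erase (lam α)).erase S, m χ = 0 := by
    intro χ hχ
    rw [hS1] at hsum1
    have h0 : ∑ χ ∈ (Finset.univ.erase (lam α)).erase S, m χ * m χ = 0 := by omega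
    exact mul_self_eq_zero.1 (Finset.sum_eq_zero_iff.1 h0 χ hχ)
  refine ⟨S, Finset.ne_of_mem_erase hS, fun g => ?_, by rw [hm, hS1, Nat.cast_one]; exact one_ne_zero⟩
  rw [hexp g, ← Finset.add_sum_erase _ _ (Finset.mem_univ (lam α)), ← Finset.add_sum_erase _ _ hS, hl, hS1,
    Finset.sum_eq_zero (fun χ hχ => by rw [hrest χ hχ]; simp)]
  simp

/-- Cuspidal: every coset sum over the unipotent radical vanishes. -/
def IsCusp (χ : G2 → ℂ) : Prop := ∀ a d : Fˣ, ∑ c : F, χ ((belt ((a, d), c) : BG) : G2) = 0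

theorem cusp_of_orthogonal (χ : IrrCharacter G2)
    (h : ∀ α β : MulChar F ℂ, classInner (indFun BG (wt α β)) (χ : G2 → ℂ) = 0) :
    IsCusp (χ : G2 → ℂ) := by
  classical
  haveI : Fintype BG := Fintype.ofFinite _
  set S : Fˣ × Fˣ → ℂ := fun p => ∑ c : F, conj ((χ : G2 → ℂ) ((belt (p, c) : BG) : G2)) with hS
  have hz : S = 0 := by
    refine classFunction_eq_zero (fun x y => ?_) fun ψ => ?_
    · rw [mul_comm y x, mul_inv_cancel_right]
    have hψ1 : (ψ : Fˣ × Fˣ → ℂ) 1 = 1 := by
      rw [irr_apply_one, charDegree_eq_one_of_comm (fun a b => mul_comm a b) ψ, Nat.cast_one]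
    obtain ⟨f, hf⟩ := IsCharacter.exists_hom (isCharacter_irr ψ) hψ1
    let α : MulChar F ℂ := MulChar.ofUnitHom (f.comp (MonoidHom.inl Fˣ Fˣ))
    let β : MulChar F ℂ := MulChar.ofUnitHom (f.comp (MonoidHom.inr Fˣ Fˣ))
    have h0 := h α β
    rw [CfsgLib.Chars.frobenius _ _ (IsCharacter.isClassFunction (isCharacter_irr χ)), classInner, mul_eq_zero,
      or_iff_right (inv_ne_zero (natCast_card_ne_zero BG))] at h0
    rw [← Fintype.sum_equiv (Equiv.ofBijective _ (belt_bijective (F := F)))
      (fun p : (Fˣ × Fˣ) × F => α (p.1.1 : F) * β (p.1.2 : F) * conj ((χ : G2 → ℂ) ((belt p : BG) : G2)))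
      _ (fun p => by rfl), Fintype.sum_prod_type] at h0
    refine Eq.trans (Finset.sum_congr rfl fun p _ => ?_) h0
    obtain ⟨a, d⟩ := p
    dsimp only [hS]
    rw [← Finset.mul_sum, hf]
    show (∑ c : F, conj ((χ : G2 → ℂ) ((belt ((a, d), c) : BG) : G2))) * (f (a, d) : ℂ) = _
    rw [show (f (a, d) : ℂ) = α (a : F) * β (d : F) from ?_, mul_comm]
    simp only [α, β, MulChar.ofUnitHom_coe, MonoidHom.comp_apply, MonoidHom.inl_apply, MonoidHom.inr_apply]
    rw [← Units.val_mul, ← map_mul, Prod.mk_mul_mk, mul_one, one_mul]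
  intro a d
  have := congrArg conj (congrFun hz (a, d))
  simpa [hS, map_sum] using this

/-- Every character is cuspidal, principal, linear or a Steinberg twist. -/
theorem classify (χ : IrrCharacter G2) :
    IsCusp (χ : G2 → ℂ) ∨ (∃ α β : MulChar F ℂ, ∀ g, (χ : G2 → ℂ) g = indFun BG (wt α β) g ∧ α ≠ β) ∨
      (∃ α : MulChar F ℂ, χ = lam α) ∨
      ∃ α : MulChar F ℂ, ∀ g, (χ : G2 → ℂ) g = indFun BG (wt α α) g - (lam α : G2 → ℂ) g := by
  classical
  by_cases h : ∀ α β : MulChar F ℂ, classInner (indFun BG (wt α β)) (χ : G2 → ℂ) = 0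
  · exact Or.inl (cusp_of_orthogonal χ h)
  right
  push Not at h
  obtain ⟨α, β, hαβ⟩ := h
  by_cases hab : α = β
  · subst hab
    obtain ⟨S, hSne, hS, -⟩ := exists_steinberg α
    rw [show indFun BG (wt α α) = fun g => (lam α : G2 → ℂ) g + (S : G2 → ℂ) g from funext hS] at hαβ
    by_cases h1 : χ = lam α
    · exact Or.inr (Or.inl ⟨α, h1⟩)
    by_cases h2 : χ = S
    · exact Or.inr (Or.inr ⟨α, fun g => by rw [hS g, h2]; ring⟩)
    exfalso
    apply hαβ
    have e1 := classInner_irr (lam α) χ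
    have e2 := classInner_irr S χ
    rw [if_neg (Ne.symm h1), classInner] at e1
    rw [if_neg (Ne.symm h2), classInner] at e2
    simp only [classInner, add_mul, Finset.sum_add_distrib, mul_add, e1, e2, add_zero]
  · left
    have hirr : IsIrrCharacter G2 (indFun BG (wt α β)) := by
      refine isIrrCharacter_of_norm_one (isCharacter_principal α β) ?_
      rw [inner_eq, if_pos rfl, if_pos rfl, if_neg hab]; simp
    have h1 := classInner_irr ⟨_, hirr⟩ χ
    by_cases he : (⟨_, hirr⟩ : IrrCharacter G2) = χ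
    · exact ⟨α, β, fun g => ⟨(congrFun (congrArg Subtype.val he) g).symm, hab⟩⟩
    · rw [if_neg he] at h1; exact absurd h1 hαβ

theorem principal_one (α β : MulChar F ℂ) : indFun BG (wt α β) 1 = (Fintype.card F : ℂ) + 1 := by
  rw [indFun_eq]; simp; ring

theorem principal_unip (α β : MulChar F ℂ) (u : G2) (hu : (u : M2) = !![1, 1; 0, 1]) :
    indFun BG (wt α β) u = 1 := by
  rw [indFun_eq, hu]; simp

theorem principal_split (α β : MulChar F ℂ) (g : G2) (h01 : (g : M2) 0 1 = 0) (h10 : (g : M2) 1 0 = 0)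
    (hne : (g : M2) 0 0 ≠ (g : M2) 1 1) :
    indFun BG (wt α β) g = α ((g : M2) 0 0) * β ((g : M2) 1 1) + α ((g : M2) 1 1) * β ((g : M2) 0 0) := by
  have hab : (g : M2) 1 1 - (g : M2) 0 0 ≠ 0 := sub_ne_zero.2 (Ne.symm hne)
  rw [indFun_eq, if_pos h10, Finset.sum_eq_single (0 : F)]
  · simp [h01, h10]
  · intro x _ hx
    rw [if_neg]
    simp [h01, h10, hab, hx]
  · simp

theorem principal_elliptic (α β : MulChar F ℂ) (g : G2)
    (hno : ∀ (c : F) (v : Fin 2 → F), v ≠ 0 → (g : M2).mulVec v ≠ c • v) :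
    indFun BG (wt α β) g = 0 := by
  rw [indFun_eq, if_neg, Finset.sum_eq_zero, add_zero]
  · intro x _
    rw [if_neg]
    intro hx
    refine hno ((g : M2) 1 0 * x + (g : M2) 1 1) ![x, 1] (by simp) ?_
    funext i
    fin_cases i <;> simp [Matrix.mulVec, dotProduct, Fin.sum_univ_two]
    linear_combination (-1 : F) * hx
  · intro h10
    refine hno ((g : M2) 0 0) ![1, 0] (by simp) ?_
    funext i
    fin_cases i <;> simp [Matrix.mulVec, dotProduct, Fin.sum_univ_two, h10]

theorem cusp_split (χ : IrrCharacter G2) (hχ : IsCusp (χ : G2 → ℂ)) (g : G2) (h01 : (g : M2) 0 1 = 0)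
    (h10 : (g : M2) 1 0 = 0) (hne : (g : M2) 0 0 ≠ (g : M2) 1 1) : (χ : G2 → ℂ) g = 0 := by
  have hd := diag_ne g h10
  set a := Units.mk0 _ (left_ne_zero_of_mul hd) with ha
  set d := Units.mk0 _ (right_ne_zero_of_mul hd) with hd'
  have hab : (g : M2) 1 1 - (g : M2) 0 0 ≠ 0 := sub_ne_zero.2 (Ne.symm hne)
  have hall : ∀ c : F, (χ : G2 → ℂ) ((belt ((a, d), c) : BG) : G2) = (χ : G2 → ℂ) g := by
    intro c
    rw [← IsCharacter.isClassFunction (isCharacter_irr χ) g
      ((belt ((1, 1), c / ((g : M2) 1 1 - (g : M2) 0 0)) : BG) : G2)]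
    refine congrArg _ ?_
    rw [eq_mul_inv_iff_mul_eq]
    refine Units.ext ?_
    rw [Units.val_mul, Units.val_mul, belt_coe, belt_coe]
    ext i j
    fin_cases i <;> fin_cases j <;> simp [Matrix.mul_apply, Fin.sum_univ_two, ha, hd', h01, h10]
    field_simp
    ring
  have := hχ a d
  simp only [hall, Finset.sum_const, nsmul_eq_mul, Finset.card_univ] at this
  exact (mul_eq_zero.1 this).resolve_left (Nat.cast_ne_zero.2 Fintype.card_ne_zero)

theorem cusp_unip (χ : IrrCharacter G2) (hχ : IsCusp (χ : G2 → ℂ)) (u : G2) (hu : (u : M2) = !![1, 1; 0, 1]) :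
    (charDegree (χ : G2 → ℂ) : ℂ) + ((Fintype.card F : ℂ) - 1) * (χ : G2 → ℂ) u = 0 := by
  have hall : ∀ c : F, c ≠ 0 → (χ : G2 → ℂ) ((belt (((1 : Fˣ), (1 : Fˣ)), c) : BG) : G2) = (χ : G2 → ℂ) u := by
    intro c hc
    rw [← IsCharacter.isClassFunction (isCharacter_irr χ) u ((belt ((Units.mk0 c hc, 1), 0) : BG) : G2)]
    refine congrArg _ ?_
    rw [eq_mul_inv_iff_mul_eq]
    refine Units.ext ?_
    rw [Units.val_mul, Units.val_mul, belt_coe, belt_coe, hu]
    ext i j
    fin_cases i <;> fin_cases j <;> simp [Matrix.mul_apply, Fin.sum_univ_two]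
  have h := hχ 1 1
  rw [← Finset.add_sum_erase _ _ (Finset.mem_univ (0 : F)),
    Finset.sum_congr rfl (fun c hc => hall c (Finset.ne_of_mem_erase hc)), Finset.sum_const, nsmul_eq_mul,
    Finset.card_erase_of_mem (Finset.mem_univ _), Finset.card_univ, Nat.cast_sub (Fintype.card_pos (α := F)),
    Nat.cast_one] at h
  have h1 : ((belt (((1 : Fˣ), (1 : Fˣ)), 0) : BG) : G2) = 1 := Units.ext (by
    rw [belt_coe, Units.val_one]; ext i j; fin_cases i <;> fin_cases j <;> simp)
  rw [h1, irr_apply_one] at h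
  exact h

theorem exists_unip : ∃ u : G2, (u : M2) = !![1, 1; 0, 1] :=
  ⟨Matrix.GeneralLinearGroup.mkOfDetNeZero !![1, 1; 0, 1] (by simp [Matrix.det_fin_two]), rfl⟩

theorem cusp_dvd (χ : IrrCharacter G2) (hχ : IsCusp (χ : G2 → ℂ)) :
    (Fintype.card F - 1) ∣ charDegree (χ : G2 → ℂ) := by
  obtain ⟨u, hu⟩ := exists_unip (F := F)
  have h := cusp_unip χ hχ u hu
  have h1 : (1 : ℕ) ≤ Fintype.card F := Fintype.card_pos
  have hq : ((Fintype.card F : ℂ) - 1) ≠ 0 := by
    rw [sub_ne_zero]; exact_mod_cast (Fintype.one_lt_card (α := F)).ne'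
  refine exists_int_of_isIntegral_div (by have := Fintype.one_lt_card (α := F); omega) ?_
  have : ((charDegree (χ : G2 → ℂ) : ℕ) : ℂ) / ((Fintype.card F - 1 : ℕ) : ℂ) = -(χ : G2 → ℂ) u := by
    rw [Nat.cast_sub h1, Nat.cast_one, div_eq_iff hq]
    linear_combination h
  rw [this]
  exact (IsCharacter.isIntegral (isCharacter_irr χ) u).neg

theorem card_centralizer_unip_le (u : G2) (hu : (u : M2) = !![1, 1; 0, 1]) :
    Nat.card (Subgroup.centralizer ({u} : Set G2)) ≤ (Fintype.card F - 1) * Fintype.card F := by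
  have key : ∀ z : Subgroup.centralizer ({u} : Set G2), ((z : G2) : M2) 1 0 = 0 ∧
      ((z : G2) : M2) 0 0 = ((z : G2) : M2) 1 1 := by
    intro z
    have hz := congrArg (fun y : G2 => (y : M2)) (Subgroup.mem_centralizer_iff.1 z.2 u rfl)
    simp only [Units.val_mul, hu] at hz
    have h00 := congrFun (congrFun hz 0) 0
    have h01 := congrFun (congrFun hz 0) 1
    simp [Matrix.mul_apply, Fin.sum_univ_two] at h00 h01
    refine ⟨h00, ?_⟩
    linear_combination -h01
  have hinj : Function.Injective (fun z : Subgroup.centralizer ({u} : Set G2) =>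
      ((⟨((z : G2) : M2) 0 0, left_ne_zero_of_mul (diag_ne (z : G2) (key z).1)⟩ : {x : F // x ≠ 0}),
        ((z : G2) : M2) 0 1)) := by
    intro z w h
    simp only [Prod.mk.injEq, Subtype.mk.injEq] at h
    refine Subtype.ext (Units.ext ?_)
    ext i j
    fin_cases i <;> fin_cases j
    · exact h.1
    · exact h.2
    · exact (key z).1.trans (key w).1.symm
    · exact (key z).2.symm.trans (h.1.trans (key w).2)
  refine (Nat.card_le_card_of_injective _ hinj).trans ?_
  rw [Nat.card_prod, Nat.card_eq_fintype_card (α := F), Nat.card_eq_fintype_card, Fintype.card_subtype_compl,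
    Fintype.card_subtype_eq]

theorem card_GL2_le : Nat.card G2 = (Fintype.card F ^ 2 - 1) * (Fintype.card F ^ 2 - Fintype.card F) := by
  rw [Matrix.card_GL_field]
  simp [Fin.prod_univ_two]

theorem lam_injective {α β : MulChar F ℂ} (h : lam α = lam β) : α = β := by
  ext a
  have h1 := congrFun (congrArg Subtype.val h)
    (Matrix.GeneralLinearGroup.mkOfDetNeZero !![(a : F), 0; 0, 1] (by simp [Matrix.det_fin_two]))
  rw [lam_apply, lam_apply] at h1
  simpa using h1

theorem cusp_ne_lam (χ : IrrCharacter G2) (hχ : IsCusp (χ : G2 → ℂ)) (hq : 3 ≤ Fintype.card F) (α : MulChar F ℂ) :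
    χ ≠ lam α := by
  intro h
  have hd := cusp_dvd χ hχ
  have h1 : charDegree (χ : G2 → ℂ) = 1 := by rw [h]; exact charDegree_hom _
  rw [h1] at hd
  have := Nat.le_of_dvd one_pos hd
  omega

/-- A cuspidal character has degree different from `q` and `q + 1`. -/
theorem cusp_degree (χ : IrrCharacter G2) (hχ : IsCusp (χ : G2 → ℂ)) :
    charDegree (χ : G2 → ℂ) ≠ Fintype.card F ∧ charDegree (χ : G2 → ℂ) ≠ Fintype.card F + 1 := by
  classical
  have hd := cusp_dvd χ hχ
  have hq : 2 ≤ Fintype.card F := Fintype.one_lt_card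
  set q := Fintype.card F with hq'
  set d := charDegree (χ : G2 → ℂ) with hd0
  have hsq : d ^ 2 + 1 ≤ Nat.card G2 + 0 ∨ d = 1 := by
    by_cases h1 : d = 1
    · exact Or.inr h1
    left
    have hne : χ ≠ lam 1 := fun h => h1 (by rw [hd0, h]; exact charDegree_hom _)
    have h2 := Finset.sum_le_sum_of_subset (f := fun ψ : IrrCharacter G2 => charDegree (ψ : G2 → ℂ) ^ 2)
      (Finset.subset_univ {χ, lam 1})
    rw [Finset.sum_pair hne, sum_deg_sq, show charDegree (lam (1 : MulChar F ℂ) : G2 → ℂ) = 1 from charDegree_hom _] at h2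
    simpa using h2
  have hG := card_GL2_le (F := F)
  constructor
  · intro h
    rw [h] at hd
    have h1 : q - 1 ∣ 1 := (Nat.dvd_add_right (dvd_refl (q - 1))).1 (by rwa [show q - 1 + 1 = q by omega])
    have hq2 : q = 2 := by have := Nat.le_of_dvd one_pos h1; omega
    obtain ⟨S, hSne, hS, hSin⟩ := exists_steinberg (1 : MulChar F ℂ)
    have hSdeg : charDegree (S : G2 → ℂ) = q := by
      have h3 := hS 1
      rw [principal_one, irr_apply_one, irr_apply_one,
        show charDegree (lam (1 : MulChar F ℂ) : G2 → ℂ) = 1 from charDegree_hom _, ← hq', Nat.cast_one] at h3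
      have h4 : (charDegree (S : G2 → ℂ) : ℂ) = (q : ℂ) := by linear_combination -h3
      exact_mod_cast h4
    have hχS : χ ≠ S := by
      intro he
      apply hSin
      rw [← he]
      haveI : Fintype BG := Fintype.ofFinite _
      rw [CfsgLib.Chars.frobenius _ _ (IsCharacter.isClassFunction (isCharacter_irr χ)), classInner]
      rw [← Fintype.sum_equiv (Equiv.ofBijective _ (belt_bijective (F := F)))
        (fun p : (Fˣ × Fˣ) × F => (1 : MulChar F ℂ) (p.1.1 : F) * (1 : MulChar F ℂ) (p.1.2 : F) * conj ((χ : G2 → ℂ) ((belt p : BG) : G2)))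
        _ (fun p => by rfl), Fintype.sum_prod_type]
      refine mul_eq_zero_of_right _ (Finset.sum_eq_zero fun p _ => ?_)
      dsimp only
      rw [← Finset.mul_sum, ← map_sum, hχ p.1 p.2, map_zero, mul_zero]
    have h2 := Finset.sum_le_sum_of_subset (f := fun ψ : IrrCharacter G2 => charDegree (ψ : G2 → ℂ) ^ 2)
      (Finset.subset_univ {χ, S})
    rw [Finset.sum_pair hχS, sum_deg_sq, hSdeg, hG, ← hd0, h, ← hq', hq2] at h2
    norm_num at h2
  · intro h
    rw [h] at hd hsq
    have h1 : q - 1 ∣ 2 := (Nat.dvd_add_right (dvd_refl (q - 1))).1 (by rwa [show q - 1 + 2 = q + 1 by omega])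
    have h3 := Nat.le_of_dvd (by norm_num) h1
    rcases (show q = 2 ∨ q = 3 by omega) with hq2 | hq3
    · rw [hG, ← hq', hq2] at hsq; norm_num at hsq
    · obtain ⟨u, hu⟩ := exists_unip (F := F)
      have hchar : ringChar F ≠ 2 := by
        intro hc
        have := FiniteField.even_card_iff_char_two.mp hc
        rw [← hq', hq3] at this
        norm_num at this
      let α : MulChar F ℂ := (quadraticChar F).ringHomComp (Int.castRingHom ℂ)
      have hα : α ≠ 1 := (MulChar.ringHomComp_ne_one_iff (Int.cast_injective (α := ℂ))).2 (quadraticChar_ne_one hchar)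
      have hP : IsIrrCharacter G2 (indFun BG (wt 1 α)) := by
        refine isIrrCharacter_of_norm_one (isCharacter_principal 1 α) ?_
        rw [inner_eq, if_pos rfl, if_pos rfl, if_neg (Ne.symm hα)]; simp
      set P : IrrCharacter G2 := ⟨_, hP⟩ with hPdef
      have hPdeg : (P : G2 → ℂ) 1 = 4 := by
        show indFun BG (wt 1 α) 1 = 4
        rw [principal_one, ← hq', hq3]; norm_num
      have hPl : ∀ β : MulChar F ℂ, P ≠ lam β := fun β he => by
        have h5 := congrFun (congrArg Subtype.val he) 1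
        rw [hPdeg, irr_apply_one, show charDegree (lam β : G2 → ℂ) = 1 from charDegree_hom _] at h5
        norm_num at h5
      have hχP : χ ≠ P := by
        intro he
        have h5 := cusp_unip χ hχ u hu
        have h6 : (χ : G2 → ℂ) u = 1 := by rw [he]; exact principal_unip 1 α u hu
        rw [h6, ← hd0, h, ← hq', hq3] at h5
        norm_num at h5
      have hval : ∀ β : MulChar F ℂ, Complex.normSq ((lam β : G2 → ℂ) u) = 1 := fun β => by
        rw [lam_apply, hu]; simp
      have hχu : Complex.normSq ((χ : G2 → ℂ) u) = 4 := by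
        have h5 := cusp_unip χ hχ u hu
        rw [← hd0, h, ← hq', hq3] at h5
        have h6 : (χ : G2 → ℂ) u = -2 := by
          push_cast at h5; linear_combination h5 / 2
        rw [h6]; norm_num [Complex.normSq_apply]
      have hPu : Complex.normSq ((P : G2 → ℂ) u) = 1 := by
        rw [show (P : G2 → ℂ) u = 1 from principal_unip 1 α u hu]; simp
      have hsum := col_orth u u
      rw [if_pos (IsConj.refl u)] at hsum
      simp only [Complex.mul_conj, ← Complex.ofReal_sum] at hsum
      have hs : ∑ ψ : IrrCharacter G2, Complex.normSq ((ψ : G2 → ℂ) u) =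
          (Nat.card (Subgroup.centralizer ({u} : Set G2)) : ℝ) := by exact_mod_cast hsum
      have h7 := Finset.sum_le_sum_of_subset_of_nonneg (f := fun ψ : IrrCharacter G2 => Complex.normSq ((ψ : G2 → ℂ) u))
        (Finset.subset_univ {χ, P, lam 1, lam α}) (fun i _ _ => Complex.normSq_nonneg _)
      have n1 := cusp_ne_lam χ hχ (by omega)
      rw [Finset.sum_insert (by simp [hχP, n1]), Finset.sum_insert (by simp [hPl]),
        Finset.sum_pair (fun he => hα (lam_injective he).symm), hs, hχu, hPu, hval, hval] at h7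
      have h8 := card_centralizer_unip_le u hu
      rw [← hq', hq3] at h8
      have h9 : (Nat.card (Subgroup.centralizer ({u} : Set G2)) : ℝ) ≤ ((2 * 3 : ℕ) : ℝ) := Nat.cast_le.2 h8
      push_cast at h9
      linarith

theorem lam_degree (α : MulChar F ℂ) : (lam α : G2 → ℂ) 1 = 1 := by
  rw [irr_apply_one, show charDegree (lam α : G2 → ℂ) = 1 from charDegree_hom _, Nat.cast_one]

/-- A character of degree `q + 1` is a principal series character. -/
theorem of_degree_succ (χ : IrrCharacter G2) (h : (χ : G2 → ℂ) 1 = (Fintype.card F : ℂ) + 1) :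
    ∃ α β : MulChar F ℂ, ∀ g, (χ : G2 → ℂ) g = indFun BG (wt α β) g := by
  have hq : 2 ≤ Fintype.card F := Fintype.one_lt_card
  rcases classify χ with hc | ⟨α, β, hab⟩ | ⟨α, rfl⟩ | ⟨α, hS⟩
  · exfalso
    rw [irr_apply_one] at h
    exact (cusp_degree χ hc).2 (by exact_mod_cast h)
  · exact ⟨α, β, fun g => (hab g).1⟩
  · rw [lam_degree] at h
    have h' : (1 : ℕ) = Fintype.card F + 1 := by exact_mod_cast h
    omega
  · have h1 := hS 1
    rw [h, principal_one, lam_degree] at h1
    exfalso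
    exact one_ne_zero (by linear_combination h1 : (1 : ℂ) = 0)

/-- A character of degree `q` is a Steinberg twist. -/
theorem of_degree_card (χ : IrrCharacter G2) (h : (χ : G2 → ℂ) 1 = (Fintype.card F : ℂ)) :
    ∃ α : MulChar F ℂ, ∀ g, (χ : G2 → ℂ) g = indFun BG (wt α α) g - (lam α : G2 → ℂ) g := by
  have hq : 2 ≤ Fintype.card F := Fintype.one_lt_card
  rcases classify χ with hc | ⟨α, β, hab⟩ | ⟨α, rfl⟩ | ⟨α, hS⟩
  · exfalso
    rw [irr_apply_one] at h
    exact (cusp_degree χ hc).1 (by exact_mod_cast h)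
  · have h1 := (hab 1).1
    rw [h, principal_one] at h1
    exfalso
    exact one_ne_zero (by linear_combination -h1 : (1 : ℂ) = 0)
  · rw [lam_degree] at h
    have h' : (1 : ℕ) = Fintype.card F := by exact_mod_cast h
    omega
  · exact ⟨α, hS⟩

/-- A character of degree `q - 1`, `q ≥ 3`, is cuspidal. -/
theorem of_degree_pred (χ : IrrCharacter G2) (hq : 3 ≤ Fintype.card F)
    (h : (χ : G2 → ℂ) 1 = (Fintype.card F : ℂ) - 1) : IsCusp (χ : G2 → ℂ) := by
  rcases classify χ with hc | ⟨α, β, hab⟩ | ⟨α, rfl⟩ | ⟨α, hS⟩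
  · exact hc
  · have h1 := (hab 1).1
    rw [h, principal_one] at h1
    exfalso
    exact two_ne_zero (by linear_combination -h1 : (2 : ℂ) = 0)
  · rw [lam_degree] at h
    have h' : (2 : ℕ) = Fintype.card F := by
      have : ((2 : ℕ) : ℂ) = (Fintype.card F : ℂ) := by push_cast; linear_combination h
      exact_mod_cast this
    omega
  · have h1 := hS 1
    rw [h, principal_one, lam_degree] at h1
    exfalso
    exact one_ne_zero (by linear_combination -h1 : (1 : ℂ) = 0)

end CfsgLib.GL2Borel
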