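import Mathlib
import Cfsg.Agent.Lib.GL2Borel.Classify
import Cfsg.Agent.S2330

/-!
# Degrees of the characters of `GL₂`
-/

set_option autoImplicit false

namespace CfsgLib.GL2Borel

open Matrix CfsgLib.Chars Cfsg
open scoped ComplexConjugate

universe u

variable {F : Type u} [Field F] [Fintype F] [DecidableEq F]

local notation "G2" => Matrix.GeneralLinearGroup (Fin 2) F
local notation "M2" => Matrix (Fin 2) (Fin 2) F
local notation "BG" => Cfsg.upperTriangularGL 2 F

theorem steinberg_injective {α β : MulChar F ℂ} (S : IrrCharacter G2)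
    (hα : ∀ g, indFun BG (wt α α) g = (lam α : G2 → ℂ) g + (S : G2 → ℂ) g)
    (hβ : ∀ g, indFun BG (wt β β) g = (lam β : G2 → ℂ) g + (S : G2 → ℂ) g)
    (hSα : S ≠ lam α) (hSβ : S ≠ lam β) : α = β := by
  classical
  by_contra hne
  have h := inner_eq α α β β
  rw [if_neg hne, funext hα, funext hβ] at h
  simp only [zero_mul, add_zero] at h
  have e : classInner (fun g => (lam α : G2 → ℂ) g + (S : G2 → ℂ) g) (fun g => (lam β : G2 → ℂ) g + (S : G2 → ℂ) g) =
      classInner (lam α : G2 → ℂ) (lam β : G2 → ℂ) + classInner (lam α : G2 → ℂ) (S : G2 → ℂ) +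
        (classInner (S : G2 → ℂ) (lam β : G2 → ℂ) + classInner (S : G2 → ℂ) (S : G2 → ℂ)) := by
    simp only [classInner, map_add, add_mul, mul_add, Finset.sum_add_distrib]
    ring
  rw [e, classInner_irr, classInner_irr, classInner_irr, classInner_irr, if_neg (fun h => hne (lam_injective h)),
    if_neg (Ne.symm hSα), if_neg hSβ, if_pos rfl] at h
  norm_num at h

theorem degrees :
    (∀ χ : IrrCharacter G2, charDegree (χ : G2 → ℂ) = 1 ∨ charDegree (χ : G2 → ℂ) = Fintype.card F - 1 ∨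
      charDegree (χ : G2 → ℂ) = Fintype.card F ∨ charDegree (χ : G2 → ℂ) = Fintype.card F + 1) ∧
    (3 ≤ Fintype.card F →
      Nat.card {χ : IrrCharacter G2 // charDegree (χ : G2 → ℂ) = 1} = Fintype.card F - 1 ∧
      Nat.card {χ : IrrCharacter G2 // charDegree (χ : G2 → ℂ) = Fintype.card F} = Fintype.card F - 1 ∧
      Nat.card {χ : IrrCharacter G2 // charDegree (χ : G2 → ℂ) = Fintype.card F + 1} =
        (Fintype.card F - 1) * (Fintype.card F - 2) / 2 ∧
      Nat.card {χ : IrrCharacter G2 // charDegree (χ : G2 → ℂ) = Fintype.card F - 1} =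
        Fintype.card F * (Fintype.card F - 1) / 2) := by
  classical
  haveI : Finite (IrrCharacter G2) := finite_irr G2
  haveI : Fintype (MulChar F ℂ) := Fintype.ofFinite _
  set q := Fintype.card F with hq0
  have hq : 2 ≤ q := Fintype.one_lt_card
  have hn : Fintype.card (MulChar F ℂ) = q - 1 := by
    obtain ⟨e⟩ := MulChar.mulEquiv_units F ℂ
    rw [← Nat.card_eq_fintype_card, Nat.card_congr e.toEquiv, Nat.card_units, Nat.card_eq_fintype_card]
  choose St hStne hSt _hStin using fun α : MulChar F ℂ => exists_steinberg α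
  have hSt1 : ∀ α, charDegree (St α : G2 → ℂ) = q := fun α => by
    have h3 := hSt α 1
    rw [principal_one, lam_degree, irr_apply_one, ← hq0] at h3
    have h4 : (charDegree (St α : G2 → ℂ) : ℂ) = (q : ℂ) := by linear_combination -h3
    exact_mod_cast h4
  have hPirr : ∀ α β : MulChar F ℂ, α ≠ β → IsIrrCharacter G2 (indFun BG (wt α β)) := fun α β hab => by
    refine isIrrCharacter_of_norm_one (isCharacter_principal α β) ?_
    rw [inner_eq, if_pos rfl, if_pos rfl, if_neg hab]; simp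
  let Pf : Sym2 (MulChar F ℂ) → (G2 → ℂ) :=
    Sym2.lift ⟨fun a b => indFun BG (wt a b), fun a b => (eq_iff a b b a).2 (Or.inr ⟨rfl, rfl⟩)⟩
  have hPf : ∀ z : {z : Sym2 (MulChar F ℂ) // ¬ z.IsDiag}, IsIrrCharacter G2 (Pf z.1) := by
    rintro ⟨z, hz⟩
    induction z using Sym2.ind with
    | h a b => exact hPirr a b (fun h => hz (Sym2.mk_isDiag_iff.2 h))
  let P : {z : Sym2 (MulChar F ℂ) // ¬ z.IsDiag} → IrrCharacter G2 := fun z => ⟨Pf z.1, hPf z⟩
  have hP1 : ∀ z, charDegree (P z : G2 → ℂ) = q + 1 := by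
    rintro ⟨z, hz⟩
    induction z using Sym2.ind with
    | h a b =>
      have h1 : (P ⟨s(a, b), hz⟩ : G2 → ℂ) 1 = indFun BG (wt a b) 1 := rfl
      rw [irr_apply_one, principal_one, ← hq0] at h1
      exact_mod_cast h1
  have hPinj : Function.Injective P := by
    rintro ⟨z, hz⟩ ⟨w, hw⟩ h
    induction z using Sym2.ind with
    | h a b =>
      induction w using Sym2.ind with
      | h c d =>
        have h1 : indFun BG (wt a b) = indFun BG (wt c d) := congrArg Subtype.val h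
        refine Subtype.ext (Sym2.eq_iff.2 ?_)
        exact (eq_iff a b c d).1 h1
  have hlam1 : ∀ α : MulChar F ℂ, charDegree (lam α : G2 → ℂ) = 1 := fun α => charDegree_hom _
  have hStinj : Function.Injective St := fun α β h =>
    steinberg_injective (St α) (hSt α) (fun g => by rw [h]; exact hSt β g) (hStne α) (h ▸ hStne β)
  set L := Finset.univ.image (lam : MulChar F ℂ → IrrCharacter G2) with hL
  set Q := Finset.univ.image St with hQ
  set R := Finset.univ.image P with hR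
  set U := L ∪ Q ∪ R with hU
  have hdL : ∀ χ ∈ L, charDegree (χ : G2 → ℂ) = 1 := by
    intro χ h; obtain ⟨α, -, rfl⟩ := Finset.mem_image.1 h; exact hlam1 α
  have hdQ : ∀ χ ∈ Q, charDegree (χ : G2 → ℂ) = q := by
    intro χ h; obtain ⟨α, -, rfl⟩ := Finset.mem_image.1 h; exact hSt1 α
  have hdR : ∀ χ ∈ R, charDegree (χ : G2 → ℂ) = q + 1 := by
    intro χ h; obtain ⟨α, -, rfl⟩ := Finset.mem_image.1 h; exact hP1 α
  have hLQ : Disjoint L Q := Finset.disjoint_left.2 fun χ h1 h2 => by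
    have := hdL χ h1; have := hdQ χ h2; omega
  have hLQR : Disjoint (L ∪ Q) R := Finset.disjoint_left.2 fun χ h1 h2 => by
    have := hdR χ h2
    rcases Finset.mem_union.1 h1 with h | h
    · have := hdL χ h; omega
    · have := hdQ χ h; omega
  have hLc : L.card = q - 1 := by
    rw [hL, Finset.card_image_of_injective _ (fun a b h => lam_injective h), Finset.card_univ, hn]
  have hQc : Q.card = q - 1 := by rw [hQ, Finset.card_image_of_injective _ hStinj, Finset.card_univ, hn]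
  have hRc : R.card = (q - 1).choose 2 := by
    rw [hR, Finset.card_image_of_injective _ hPinj, Finset.card_univ, Sym2.card_subtype_not_diag, hn]
  have hcusp : ∀ χ ∈ Uᶜ, IsCusp (χ : G2 → ℂ) := by
    intro χ hχ
    rw [Finset.mem_compl, hU, Finset.mem_union, Finset.mem_union, not_or, not_or] at hχ
    rcases classify χ with hc | ⟨α, β, hab⟩ | ⟨α, he⟩ | ⟨α, hS⟩
    · exact hc
    · exfalso
      have hne : α ≠ β := (hab 1).2
      exact hχ.2 (Finset.mem_image.2 ⟨⟨s(α, β), fun h => hne (Sym2.mk_isDiag_iff.1 h)⟩, Finset.mem_univ _,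
        Subtype.ext (funext fun g => (hab g).1.symm)⟩)
    · exact absurd (Finset.mem_image.2 ⟨α, Finset.mem_univ _, he.symm⟩) hχ.1.1
    · exfalso
      exact hχ.1.2 (Finset.mem_image.2 ⟨α, Finset.mem_univ _, Subtype.ext (funext fun g => by
        rw [hS g, hSt α g]; ring)⟩)
  choose! m hm using fun χ hχ => cusp_dvd χ (hcusp χ hχ)
  have hm1 : ∀ χ ∈ Uᶜ, 1 ≤ m χ := by
    intro χ hχ
    have h1 := hm χ hχ
    have h2 := charDegree_pos χ
    rcases Nat.eq_zero_or_pos (m χ) with h | h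
    · rw [h, mul_zero] at h1; omega
    · exact h
  have hcount : U.card + (Uᶜ).card = q ^ 2 - 1 := by
    rw [Finset.card_add_card_compl, ← Nat.card_eq_fintype_card, card_irr, Cfsg.Agent.S2330.result]
  have hsum : (∑ χ ∈ U, charDegree (χ : G2 → ℂ) ^ 2) + ∑ χ ∈ Uᶜ, charDegree (χ : G2 → ℂ) ^ 2 =
      (q ^ 2 - 1) * (q ^ 2 - q) := by
    rw [Finset.sum_add_sum_compl, sum_deg_sq, card_GL2_le]
  rw [hU, Finset.card_union_of_disjoint hLQR, Finset.card_union_of_disjoint hLQ, hLc, hQc, hRc] at hcount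
  have hsL : ∑ χ ∈ L, charDegree (χ : G2 → ℂ) ^ 2 = q - 1 := by
    rw [Finset.sum_congr rfl (g := fun _ => 1) (fun χ h => by rw [hdL χ h, one_pow]), Finset.sum_const, hLc,
      smul_eq_mul, mul_one]
  have hsQ : ∑ χ ∈ Q, charDegree (χ : G2 → ℂ) ^ 2 = (q - 1) * q ^ 2 := by
    rw [Finset.sum_congr rfl (g := fun _ => q ^ 2) (fun χ h => by rw [hdQ χ h]), Finset.sum_const, hQc, smul_eq_mul]
  have hsR : ∑ χ ∈ R, charDegree (χ : G2 → ℂ) ^ 2 = (q - 1).choose 2 * (q + 1) ^ 2 := by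
    rw [Finset.sum_congr rfl (g := fun _ => (q + 1) ^ 2) (fun χ h => by rw [hdR χ h]), Finset.sum_const, hRc, smul_eq_mul]
  have hsC : ∑ χ ∈ Uᶜ, charDegree (χ : G2 → ℂ) ^ 2 = (q - 1) ^ 2 * ∑ χ ∈ Uᶜ, m χ ^ 2 := by
    rw [Finset.mul_sum]
    exact Finset.sum_congr rfl fun χ h => by rw [hm χ h, mul_pow]
  rw [hsC, hU, Finset.sum_union hLQR, Finset.sum_union hLQ, hsL, hsQ, hsR, ← hU] at hsum
  rw [← hU] at hcount
  have hmsum : ∑ χ ∈ Uᶜ, m χ ^ 2 = (Uᶜ).card := by
    set c := (q - 1).choose 2 with hc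
    set N := (Uᶜ).card
    set Mm := ∑ χ ∈ Uᶜ, m χ ^ 2
    obtain ⟨n, hn'⟩ : ∃ n, q = n + 1 := ⟨q - 1, by omega⟩
    rw [hn', Nat.add_sub_cancel] at hsum hcount
    have h2 : 2 * c = n * (n - 1) := by
      rw [hc, hn', Nat.add_sub_cancel, Nat.choose_two_right, Nat.mul_div_cancel' (even_iff_two_dvd.1 (Nat.even_mul_pred_self n))]
    have hn1 : 1 ≤ n := by omega
    have hA : 1 ≤ (n + 1) ^ 2 := Nat.one_le_pow _ _ (by omega)
    have hB : n + 1 ≤ (n + 1) ^ 2 := Nat.le_self_pow (by norm_num) _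
    zify [hA, hB, hn1, show 1 ≤ n + 1 by omega] at hsum hcount h2
    have key : (2 * (n : ℤ) ^ 2) * ((Mm : ℤ) - N) = 0 := by
      linear_combination 2 * hsum - 2 * (n : ℤ) ^ 2 * hcount + ((n : ℤ) ^ 2 - ((n : ℤ) + 2) ^ 2) * h2
    have hne : (2 * (n : ℤ) ^ 2) ≠ 0 := by positivity
    have := sub_eq_zero.1 ((mul_eq_zero.1 key).resolve_left hne)
    exact_mod_cast this
  have hm2 : ∀ χ ∈ Uᶜ, m χ = 1 := by
    intro χ hχ
    rw [Finset.card_eq_sum_ones] at hmsum
    have h := (Finset.sum_eq_sum_iff_of_le (fun i hi => Nat.one_le_pow 2 _ (hm1 i hi))).1 hmsum.symm χ hχ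
    exact (pow_eq_one_iff_of_nonneg (Nat.zero_le _) two_ne_zero).1 h.symm
  have hdC : ∀ χ ∈ Uᶜ, charDegree (χ : G2 → ℂ) = q - 1 := fun χ h => by rw [hm χ h, hm2 χ h, mul_one]
  have htri : ∀ χ, χ ∈ L ∨ χ ∈ Q ∨ χ ∈ R ∨ χ ∈ Uᶜ := fun χ => by
    by_cases h : χ ∈ U
    · rw [hU, Finset.mem_union, Finset.mem_union] at h
      tauto
    · exact Or.inr (Or.inr (Or.inr (Finset.mem_compl.2 h)))
  refine ⟨fun χ => ?_, fun h3 => ?_⟩
  · rcases htri χ with h | h | h | h
    · exact Or.inl (hdL χ h)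
    · exact Or.inr (Or.inr (Or.inl (hdQ χ h)))
    · exact Or.inr (Or.inr (Or.inr (hdR χ h)))
    · exact Or.inr (Or.inl (hdC χ h))
  have hset : ∀ (S : Finset (IrrCharacter G2)) (k : ℕ), (∀ χ : IrrCharacter G2, charDegree (χ : G2 → ℂ) = k ↔ χ ∈ S) →
      Nat.card {χ : IrrCharacter G2 // charDegree (χ : G2 → ℂ) = k} = S.card := fun S k h => by
    rw [Nat.card_congr (Equiv.subtypeEquivRight h), Nat.card_eq_fintype_card, Fintype.card_coe]
  have hCc : (Uᶜ).card = q * (q - 1) / 2 := by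
    obtain ⟨n, hn'⟩ : ∃ n, q = n + 1 := ⟨q - 1, by omega⟩
    rw [hn'] at hcount ⊢
    have h2 : 2 * n.choose 2 = n * (n - 1) := by
      rw [Nat.choose_two_right, Nat.mul_div_cancel' (even_iff_two_dvd.1 (Nat.even_mul_pred_self n))]
    rw [Nat.add_sub_cancel] at hcount ⊢
    have e1 : (n + 1) ^ 2 - 1 = n * n + 2 * n := by
      have : (n + 1) ^ 2 = n * n + 2 * n + 1 := by ring
      omega
    rw [e1] at hcount
    have e2 : (n + 1) * n = n * n + n := by ring
    have e3 : n * (n - 1) + n = n * n := by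
      obtain ⟨j, rfl⟩ : ∃ j, n = j + 1 := ⟨n - 1, by omega⟩
      rw [Nat.add_sub_cancel]; ring
    rw [e2]
    omega
  refine ⟨?_, ?_, ?_, ?_⟩
  · rw [hset L 1 fun χ => ⟨fun hd => ?_, hdL χ⟩, hLc]
    rcases htri χ with h | h | h | h
    · exact h
    · have := hdQ χ h; omega
    · have := hdR χ h; omega
    · have := hdC χ h; omega
  · rw [hset Q q fun χ => ⟨fun hd => ?_, hdQ χ⟩, hQc]
    rcases htri χ with h | h | h | h
    · have := hdL χ h; omega
    · exact h
    · have := hdR χ h; omega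
    · have := hdC χ h; omega
  · rw [hset R (q + 1) fun χ => ⟨fun hd => ?_, hdR χ⟩, hRc, Nat.choose_two_right, show q - 1 - 1 = q - 2 by omega]
    rcases htri χ with h | h | h | h
    · have := hdL χ h; omega
    · have := hdQ χ h; omega
    · exact h
    · have := hdC χ h; omega
  · rw [hset Uᶜ (q - 1) fun χ => ⟨fun hd => ?_, hdC χ⟩, hCc]
    rcases htri χ with h | h | h | h
    · have := hdL χ h; omega
    · have := hdQ χ h; omega
    · have := hdR χ h; omega
    · exact h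

end CfsgLib.GL2Borel
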